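import Groth.Agent.Lib.TorsorRep24.Main
import Groth.Agent.Lib.EtBCQ24.Mono
import Groth.Agent.Lib.EtStalk.FiniteBC
import Groth.Agent.Lib.FieldH25.Transfer
import Groth.Agent.Lib.StalkCrit24.Sections
import Groth.Agent.Lib.EtAcyc24.LqfCriterion
import Groth.Agent.Lib.LocConst24.Const
import Groth.Agent.Lib.Constr24.Strata
import Groth.Agent.Lib.Gabber24.Hens
import Groth.Agent.Lib.PiOne25.EssSurj

/-!
# Degree one proper base change over a henselian local ring
-/

set_option autoImplicit false
set_option linter.style.haveILetI false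
set_option backward.isDefEq.respectTransparency.types false

universe u

open CategoryTheory CategoryTheory.Limits AlgebraicGeometry Opposite CategoryTheory.Abelian

namespace Groth.Agent.PBC1h24

variable {X Z : Scheme.{u}}

/-- Pullback in degree zero, from the unit on global sections. -/
theorem bijective_Hpull_zero (i : Z ⟶ X) [IsIntegralHom i] [PreservesFiniteLimits (EtCoh.pull i)]
    (F : EtCoh.Ab X)
    (h : Function.Bijective (((EtCoh.pullPushAdj i).unit.app F).hom.app (op (EtCoh.top X)))) :
    Function.Bijective (EtCore.Hpull i F 0) := by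
  let a := (EtCoh.pullPushAdj i).unit.app F
  have hw : Function.Bijective (fun w : EtCoh.const X ℤ ⟶ F => w ≫ a) := by
    refine (Function.Bijective.of_comp_iff' (StalkCrit24.bijective_ev _) _).1 ?_
    have h' := h.comp (StalkCrit24.bijective_ev F)
    convert h' using 1
    rfl
  have hb := FieldH25.bijective_HofPush_integral i ((EtCoh.pull i).obj F) 0
  have e : ⇑(EtCore.Hpull i F 0) = EtLim.HofPush i ((EtCoh.pull i).obj F) 0 ∘
      fun x : EtCoh.H X F 0 => x.comp (Ext.mk₀ a) (add_zero 0) :=
    funext fun x => (FieldH25.HofPush_unit i F 0 x).symm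
  rw [e]
  refine hb.comp ?_
  refine (Function.Bijective.of_comp_iff _ (Ext.mk₀_bijective _ _)).1 ?_
  rw [show ((fun x : EtCoh.H X F 0 => x.comp (Ext.mk₀ a) (add_zero 0)) ∘ Ext.mk₀) =
    Ext.mk₀ ∘ fun w : EtCoh.const X ℤ ⟶ F => w ≫ a from funext fun w => Ext.mk₀_comp_mk₀ _ _]
  exact (Ext.mk₀_bijective _ _).comp hw

/-- A class killed by a finite surjective morphism dies in the base change of its direct image. -/
theorem exists_efface (i : Z ⟶ X) [PreservesFiniteLimits (EtCoh.pull i)] {W : Scheme.{u}} (w : W ⟶ X)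
    [IsFinite w] (hw : Function.Surjective w.base) (F : EtCoh.Ab X) {n : ℕ}
    (ξ : EtCoh.H Z ((EtCoh.pull i).obj F) n) [PreservesFiniteLimits (EtCoh.pull (pullback.snd w i))]
    (hξ : EtCore.Hpull (pullback.snd w i) ((EtCoh.pull i).obj F) n ξ = 0) :
    ∃ (G : EtCoh.Ab X) (u : F ⟶ G) (_ : Mono u),
      ξ.comp (Ext.mk₀ ((EtCoh.pull i).map u)) (add_zero n) = 0 := by
  let a : F ⟶ (EtCoh.push w).obj ((EtCoh.pull w).obj F) := (EtCoh.pullPushAdj w).unit.app F
  refine ⟨_, a, EtBCQ24.mono_unit_surj w hw F, ?_⟩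
  let w' := pullback.snd w i
  haveI : IsFinite w' := inferInstanceAs (IsFinite (pullback.snd w i))
  have sq : IsPullback (pullback.fst w i) w' w i := IsPullback.of_hasPullback w i
  haveI := EtStalk.isIso_baseChange0_finite w i w' (pullback.fst w i) sq ((EtCoh.pull w).obj F)
  let θ := EtCoh.baseChange0 w i w' (pullback.fst w i) sq.w ((EtCoh.pull w).obj F)
  have h0 : ξ.comp (Ext.mk₀ ((EtCoh.pullPushAdj w').unit.app ((EtCoh.pull i).obj F))) (add_zero n) = 0 := by
    refine (FieldH25.bijective_HofPush_integral w' _ n).1 ?_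
    rw [FieldH25.HofPush_unit, map_zero]
    exact hξ
  have h1 : ξ.comp (Ext.mk₀ ((EtCoh.pull i).map a ≫ θ)) (add_zero n) = 0 := by
    rw [← Equiv.apply_symm_apply ((EtCoh.pullPushAdj w').homEquiv _ _) ((EtCoh.pull i).map a ≫ θ),
      Adjunction.homEquiv_unit, ← Ext.mk₀_comp_mk₀, ← Ext.comp_assoc_of_third_deg_zero, h0, Ext.zero_comp]
  refine FieldH25.eq_zero_of_comp_iso _ (asIso θ) ?_
  rw [Ext.comp_assoc_of_third_deg_zero, Ext.mk₀_comp_mk₀]
  exact h1

/-- A closed subset of a proper scheme over a local ring meeting the closed fibre. -/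
theorem eq_empty_of_disjoint {A : Type u} [CommRing A] [IsLocalRing A]
    (f : X ⟶ Spec (CommRingCat.of A)) [IsProper f] (C : Set X) (hC : IsClosed C)
    (h : Disjoint C (Set.range (pullback.fst f (Spec.map (CommRingCat.ofHom
      (Ideal.Quotient.mk (IsLocalRing.maximalIdeal A))))))) : C = ∅ := by
  by_contra hne
  obtain ⟨x, hx⟩ := Set.nonempty_iff_ne_empty.2 hne
  have hcl : IsClosed (f.base '' C) := f.isClosedMap _ hC
  have hm : IsLocalRing.closedPoint A ∈ f.base '' C := by
    exact hcl.stableUnderSpecialization (IsLocalRing.specializes_closedPoint _) ⟨x, hx, rfl⟩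
  obtain ⟨y, hy, hy'⟩ := hm
  refine Set.disjoint_left.1 h hy ?_
  rw [HensProper6.range_fst_quotient f (IsLocalRing.maximalIdeal A)]
  show f.base y ∈ PrimeSpectrum.zeroLocus _
  rw [hy']
  exact (PrimeSpectrum.mem_zeroLocus (IsLocalRing.closedPoint A) _).2 fun _ hz => hz

theorem bijective_Hpull_one {A : Type u} [CommRing A] [HenselianLocalRing A]
    (f : X ⟶ Spec (CommRingCat.of A)) [IsProper f] (F : EtCoh.Ab X)
    [PreservesFiniteLimits (EtCoh.pull (pullback.fst f (Spec.map (CommRingCat.ofHom
      (Ideal.Quotient.mk (IsLocalRing.maximalIdeal A))))))]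
    (hF : EtCoh.IsFiniteLocallyConstant ((EtCoh.pull (pullback.fst f (Spec.map (CommRingCat.ofHom
      (Ideal.Quotient.mk (IsLocalRing.maximalIdeal A)))))).obj F)) :
    Function.Bijective (EtCore.Hpull (pullback.fst f (Spec.map (CommRingCat.ofHom
      (Ideal.Quotient.mk (IsLocalRing.maximalIdeal A))))) F 1) := by
  let i := pullback.fst f (Spec.map (CommRingCat.ofHom (Ideal.Quotient.mk (IsLocalRing.maximalIdeal A))))
  have hi := HensProper6.range_fst_quotient f (IsLocalRing.maximalIdeal A)
  haveI : IsClosedImmersion (Spec.map (CommRingCat.ofHom (Ideal.Quotient.mk (IsLocalRing.maximalIdeal A)))) :=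
    IsClosedImmersion.spec_of_surjective _ Ideal.Quotient.mk_surjective
  haveI : IsClosedImmersion i := inferInstanceAs (IsClosedImmersion (pullback.fst _ _))
  have h0 : ∀ G : EtCoh.Ab X, Function.Bijective (EtCore.Hpull i G 0) := fun G =>
    bijective_Hpull_zero i G (Gabber24.bijective_unit_proper (A := A)
      (I := IsLocalRing.maximalIdeal A) inferInstance f i hi G)
  haveI : (EtCoh.pull i).Additive := (EtCoh.pullPushAdj i).left_adjoint_additive
  refine ⟨?_, fun ξ => ?_⟩
  · rw [injective_iff_map_eq_zero]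
    intro x hx
    haveI : Injective (Injective.under F) := inferInstance
    exact EtAcyc24.eq_zero_of_embed i (Injective.ι F) 0 (h0 _).2 (h0 _).1 x (Ext.eq_zero_of_injective _) hx
  · obtain ⟨W₀, hfin, hsur, hkill⟩ := TorsorRep24.exists_finite_etale_kills hF ξ
    haveI := hfin
    haveI : Etale W₀.hom := W₀.prop
    haveI := PiOne25.isEquivalence_closedFibre A (IsLocalRing.maximalIdeal A) f
    let Y₀ : FEt.Cat (pullback f (Spec.map (CommRingCat.ofHom
      (Ideal.Quotient.mk (IsLocalRing.maximalIdeal A))))) :=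
      MorphismProperty.Over.mk ⊤ W₀.hom ⟨hfin, inferInstance⟩
    let W := (FEt.restrict i).objPreimage Y₀
    let e := (FEt.restrict i).objObjPreimageIso Y₀
    haveI : IsFinite W.hom := W.prop.1
    haveI : Etale W.hom := W.prop.2
    let e' : pullback W.hom i ⟶ W₀.left := e.hom.left
    have he : e' ≫ W₀.hom = pullback.snd W.hom i := MorphismProperty.Over.w e.hom
    haveI : PreservesFiniteLimits (EtCoh.pull (pullback.snd W.hom i)) := EtStalk.preservesFiniteLimits_pull _
    haveI : PreservesFiniteLimits (EtCoh.pull W₀.hom) := EtStalk.preservesFiniteLimits_pull _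
    haveI : PreservesFiniteLimits (EtCoh.pull e') := EtStalk.preservesFiniteLimits_pull _
    have hk : EtCore.Hpull (pullback.snd W.hom i) ((EtCoh.pull i).obj F) 1 ξ = 0 := by
      haveI : PreservesFiniteLimits (EtCoh.pull (e' ≫ W₀.hom)) := EtStalk.preservesFiniteLimits_pull _
      have h1 : EtCore.Hpull (e' ≫ W₀.hom) ((EtCoh.pull i).obj F) 1 ξ = 0 := by
        rw [← FieldH25.Hpull_comp e' W₀.hom, hkill, map_zero, Ext.zero_comp]
      have h2 : ∀ (h' : pullback W.hom i ⟶ _) [PreservesFiniteLimits (EtCoh.pull h')],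
          e' ≫ W₀.hom = h' → EtCore.Hpull h' ((EtCoh.pull i).obj F) 1 ξ = 0 := by
        intro h' _ hh
        subst hh
        exact h1
      exact h2 _ he
    have hws : Function.Surjective W.hom.base := by
      have hop : IsOpen (Set.range W.hom.base) := W.hom.isOpenMap.isOpen_range
      have hempty := eq_empty_of_disjoint f (Set.range W.hom.base)ᶜ hop.isClosed_compl
        (Set.disjoint_right.2 fun x ⟨z, hz⟩ hx => hx (by
          have hes : Function.Surjective (pullback.snd W.hom i).base := by
            haveI : IsIso e.hom.left := inferInstance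
            intro z
            obtain ⟨t, ht⟩ := hsur.surj z
            obtain ⟨t', ht'⟩ := (Scheme.homeoOfIso (asIso e.hom.left)).surjective t
            exact ⟨t', by rw [← he]; exact (congrArg W₀.hom.base ht').trans ht⟩
          obtain ⟨t, ht⟩ := hes z
          refine ⟨pullback.fst W.hom i t, ?_⟩
          rw [← hz, ← ht]
          exact congrArg (fun m : pullback W.hom i ⟶ X => m.base t) pullback.condition))
      exact Set.range_eq_univ.1 (Set.compl_empty_iff.1 hempty)
    obtain ⟨G, a, ha, haξ⟩ := exists_efface i W.hom hws F ξ hk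
    let S := ShortComplex.mk a (cokernel.π a) (cokernel.condition _)
    have hS : S.ShortExact := { exact := ShortComplex.exact_cokernel a }
    obtain ⟨b, hb⟩ := Ext.covariant_sequence_exact₁ _ (hS.map_of_exact (EtCoh.pull i)) ξ haξ (n₀ := 0) rfl
    obtain ⟨c, rfl⟩ := (h0 _).2 b
    exact ⟨c.comp hS.extClass rfl, (EtAcyc24.Hpull_delta i hS c).trans hb⟩

end Groth.Agent.PBC1h24
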